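import Groth.Statements.S1919
import Groth.Agent.CycDim.Lim
import Groth.Agent.CycDim.Fund
import Groth.Agent.H4Easy.Batch41
import Groth.Agent.CMFlat.Scheme
import Groth.Agent.WeilLib.Trdeg
import Groth.Agent.WeilLib.FrobDeg
import Groth.Agent.WeilLib.Iterate
import Groth.Agent.BMCoh.Height
import Groth.Agent.GeomConnSep.Basic
import Groth.Agent.EtaPt.UnivHomeo

/-!
Cycles along base change to the perfect closure.
-/

set_option autoImplicit false
set_option linter.style.haveILetI false
set_option backward.isDefEq.respectTransparency false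

universe u

open CategoryTheory CategoryTheory.Limits AlgebraicGeometry TensorProduct

noncomputable section

namespace Groth.Agent.CycPerf

variable {k K : Type u} [Field k] [Field K] [Algebra k K]
  {X : Scheme.{u}} (f : X ⟶ Spec (CommRingCat.of k))

/-- The fibre of `X_K ⟶ X` over `x` is the spectrum of `K ⊗ κ(x)`. -/
theorem exists_fibre_iso (x : X) : letI := (Spec.preimage (X.fromSpecResidueField x ≫ f)).hom.toAlgebra
    Nonempty ((pullback.fst f (Spec.map (CommRingCat.ofHom (algebraMap k K)))).fiber x ≅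
      Spec (CommRingCat.of (K ⊗[k] X.residueField x))) := by
  letI := (Spec.preimage (X.fromSpecResidueField x ≫ f)).hom.toAlgebra
  let g := Spec.map (CommRingCat.ofHom (algebraMap k K))
  let pr := pullback.fst f g
  have hφ : Spec.map (CommRingCat.ofHom (algebraMap k (X.residueField x))) = X.fromSpecResidueField x ≫ f :=
    Spec.map_preimage _
  have h1 : IsPullback (pr.fiberι x) (pr.fiberToSpecResidueField x) pr (X.fromSpecResidueField x) :=
    .of_hasPullback _ _
  have h2 : IsPullback (pullback.snd f g) pr g f := (IsPullback.of_hasPullback f g).flip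
  have h3 := h1.paste_horiz h2
  rw [← hφ] at h3
  exact ⟨h3.isoPullback ≪≫ pullbackSpecIso k K (X.residueField x)⟩

/-- The multiplicities of `X_K ⟶ X` are powers of `p` when `K` is purely inseparable over `k`. -/
theorem exists_length_eq_pow [LocallyOfFiniteType f] (p : ℕ) [ExpChar k p]
    (hinj : Function.Injective (pullback.fst f (Spec.map (CommRingCat.ofHom (algebraMap k K)))))
    (x' : ↥(pullback f (Spec.map (CommRingCat.ofHom (algebraMap k K))))) :
    ∃ n : ℕ, Module.length ((pullback f (Spec.map (CommRingCat.ofHom (algebraMap k K)))).presheaf.stalk x')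
      ((pullback f (Spec.map (CommRingCat.ofHom (algebraMap k K)))).presheaf.stalk x' ⧸
        Ideal.map ((pullback.fst f (Spec.map (CommRingCat.ofHom (algebraMap k K)))).stalkMap x').hom
          (IsLocalRing.maximalIdeal (X.presheaf.stalk
            (pullback.fst f (Spec.map (CommRingCat.ofHom (algebraMap k K))) x')))) = (p ^ n : ℕ) := by
  let g := Spec.map (CommRingCat.ofHom (algebraMap k K))
  let pr := pullback.fst f g
  let x := pr x'
  letI := (Spec.preimage (X.fromSpecResidueField x ≫ f)).hom.toAlgebra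
  have hfg : (⊤ : IntermediateField k (X.residueField x)).FG := by
    refine IntermediateField.fg_top_iff.2 ?_
    have h1 : (Spec.preimage (X.fromSpecResidueField x ≫ f)).hom = WeilLib.kStr f x := by
      rw [WeilLib.fromSpecResidueField_comp, Spec.preimage_map]; rfl

    exact (show RingHom.EssFiniteType (Spec.preimage (X.fromSpecResidueField x ≫ f)).hom by
      rw [h1]; exact @id (RingHom.EssFiniteType (WeilLib.kStr f x)) (WeilLib.essFiniteType_residueField f x))
  obtain ⟨e⟩ := exists_fibre_iso (K := K) f x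
  let z := e.hom (pr.asFiber x')
  haveI : Subsingleton ↥(pr.fiber x) := by
    refine ⟨fun a b => (pr.fiberι x).isEmbedding.injective (hinj ?_)⟩
    have h : ∀ c, pr (pr.fiberι x c) = x := fun c => show pr.fiberι x c ∈ pr ⁻¹' {x} from pr.range_fiberι x ▸ ⟨c, rfl⟩
    exact (h a).trans (h b).symm
  haveI : Subsingleton ↥(Spec (CommRingCat.of (K ⊗[k] X.residueField x))) :=
    e.hom.homeomorph.symm.injective.subsingleton
  have hq : z.asIdeal ∈ minimalPrimes (K ⊗[k] X.residueField x) := by
    refine ⟨⟨z.2, bot_le⟩, fun P hP hle => ?_⟩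
    have h : (⟨P, hP.1⟩ : ↥(Spec (CommRingCat.of (K ⊗[k] X.residueField x)))) = z :=
      @Subsingleton.elim ↥(Spec (CommRingCat.of (K ⊗[k] X.residueField x))) _ _ _
    rw [← h]
  obtain ⟨n, hn⟩ := H4Easy.length_tensor_eq_pow hfg p z.asIdeal hq
  refine ⟨n, ?_⟩
  obtain ⟨e1⟩ := CMFlat.nonempty_fiberStalk_equiv pr x'
  let I : Ideal ((pullback f g).presheaf.stalk x') :=
    Ideal.map (pr.stalkMap x').hom (IsLocalRing.maximalIdeal (X.presheaf.stalk (pr x')))
  rw [← hn, Module.length_eq_of_surjective (R := (pullback f g).presheaf.stalk x' ⧸ I)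
      (M := (pullback f g).presheaf.stalk x' ⧸ I)
      (S := (pullback f g).presheaf.stalk x') (Ideal.Quotient.mk_surjective (I := I))]
  exact CycDim.length_congr ((e1.trans (asIso (e.hom.stalkMap (pr.asFiber x'))).commRingCatIsoToRingEquiv.symm).trans
    (StructureSheaf.stalkIso (CommRingCat.of (K ⊗[k] X.residueField x)) z).symm.toRingEquiv)

/-- The pullback of cycles along a purely inseparable field extension is surjective up to `p`-powers. -/
theorem exists_pow_smul_eq [LocallyOfFiniteType f] [QuasiCompact f] [IsPurelyInseparable k K] (p : ℕ) [ExpChar k p]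
    (δ : X → ℤ) (hδ : Cyc.DeltaCompat f δ (fun _ => 0))
    (δ' : ↥(pullback f (Spec.map (CommRingCat.ofHom (algebraMap k K)))) → ℤ)
    (hδ' : Cyc.DeltaCompat (pullback.snd f (Spec.map (CommRingCat.ofHom (algebraMap k K)))) δ' (fun _ => 0)) (r : ℤ)
    (β : AlgebraicCycle (pullback f (Spec.map (CommRingCat.ofHom (algebraMap k K)))) ℤ)
    (hβ : β ∈ Cyc.Zk _ δ' r) :
    ∃ (n : ℕ) (α : AlgebraicCycle X ℤ), α ∈ Cyc.Zk X δ r ∧ (p : ℤ) ^ n • ⇑β =
      Cyc.pullFun (pullback.fst f (Spec.map (CommRingCat.ofHom (algebraMap k K)))) δ' δ 0 ⇑α := by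
  classical
  let g := Spec.map (CommRingCat.ofHom (algebraMap k K))
  let pr := pullback.fst f g
  haveI : UniversallyInjective g := GeomConnSep.universallyInjective_spec
  haveI : IsIntegralHom g := IsIntegralHom.SpecMap_iff.2 (algebraMap_isIntegral_iff.2 inferInstance)
  haveI : Surjective g := ⟨fun y => ⟨default, Subsingleton.elim _ _⟩⟩
  have hh : IsHomeomorph pr := EtaPtLib.isUnivHomeo_of_isIntegralHom g (pullback.snd f g) f pr
    (IsPullback.of_hasPullback f g)
  have hinj : Function.Injective pr := hh.injective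
  haveI : CompactSpace X := QuasiCompact.compactSpace_of_compactSpace f
  haveI : CompactSpace ↥(pullback f g) := QuasiCompact.compactSpace_of_compactSpace (pullback.snd f g)
  have hd : ∀ x', δ' x' = δ (pr x') := fun x' => by
    rw [WeilLib.eq_pdim_of_deltaCompat _ δ' hδ', WeilLib.eq_pdim_of_deltaCompat _ δ hδ,
      BMCoh.pdim_eq_of_isClosedEmbedding pr hh.isClosedEmbedding]
  choose m hm using exists_length_eq_pow f p hinj
  have hfin : (Function.support (⇑β : ↥(pullback f g) → ℤ)).Finite := CycLim.finite_support β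
  let N := hfin.toFinset.sup m
  let e := Equiv.ofBijective pr hh.bijective
  let α : AlgebraicCycle X ℤ := CycLim.mkCycle (fun x => β (e.symm x) * (p : ℤ) ^ (N - m (e.symm x)))
    fun {U} _ => (hfin.image pr).subset fun x hx =>
      ⟨e.symm x, fun h0 => hx.2 (by rw [h0, zero_mul]), e.apply_symm_apply x⟩
  refine ⟨N, α, fun x hx => ?_, funext fun x' => ?_⟩
  · show β (e.symm x) * _ = 0
    rw [hβ _ (by rw [hd]; exact (congrArg δ (e.apply_symm_apply x)).trans_ne hx), zero_mul]
  · have he : e.symm (pr x') = x' := e.symm_apply_apply x'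
    show (p : ℤ) ^ N * β x' = Cyc.pullFun _ _ _ _ _ x'
    rw [Cyc.pullFun, if_pos (by rw [hd, add_zero]), hm x', ENat.toNat_natCast]
    show _ = β (e.symm (pr x')) * (p : ℤ) ^ (N - m (e.symm (pr x'))) * _
    rw [he]
    by_cases h0 : β x' = 0
    · rw [h0, mul_zero, zero_mul, zero_mul]
    · have : m x' ≤ N := Finset.le_sup (hfin.mem_toFinset.2 h0)
      rw [mul_assoc, Nat.cast_pow, ← pow_add, Nat.sub_add_cancel this, mul_comm]

end Groth.Agent.CycPerf
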